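import Mathlib
import Groth.Prelude
import Groth.Agent.S9684
import Groth.Agent.Lib.Helper4.LocUC1
import Groth.Agent.Lib.Helper4.DimEq2
import Groth.Agent.Lib.Helper4.FTDim1

set_option linter.style.haveILetI false
set_option linter.unusedVariables false
set_option linter.unusedSectionVars false
set_option autoImplicit false
set_option backward.isDefEq.respectTransparency.types false

universe u

/-! helper7: helper7: Spec of a field is a Cyc setup with dimension function zero; residual transcendence degree over a field drops by exactly one along immediate specializations -/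

namespace Groth.Agent.Helper7.CurveThru

open CategoryTheory CategoryTheory.Limits AlgebraicGeometry IsLocalRing
open Groth.Agent.Lib.Helper4.FibDim1

section Setup

variable (k : Type u) [Field k]

theorem isSetup_spec_field : Cyc.IsSetup (Spec (CommRingCat.of k)) (fun _ => (0 : ℤ)) := by
  refine ⟨inferInstance, ?_, ?_⟩
  · intro x
    have hk : CAlg.IsUniversallyCatenary k :=
      Groth.Agent.Lib.Helper4.LocUC1.isUniversallyCatenary_field k
    have e1 : k ≃+* Γ(Spec (CommRingCat.of k), ⊤) :=
      (Scheme.ΓSpecIso (CommRingCat.of k)).symm.commRingCatIsoToRingEquiv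
    have hΓ : CAlg.IsUniversallyCatenary Γ(Spec (CommRingCat.of k), ⊤) :=
      Groth.Agent.Lib.Helper4.DimEq2.isUniversallyCatenary_of_ringEquiv e1 hk
    letI := (Spec (CommRingCat.of k)).presheaf.algebra_section_stalk (U := ⊤) ⟨x, trivial⟩
    haveI := (isAffineOpen_top (Spec (CommRingCat.of k))).isLocalization_stalk ⟨x, trivial⟩
    have hfield : IsField Γ(Spec (CommRingCat.of k), ⊤) :=
      e1.symm.toMulEquiv.isField (Field.toIsField k)
    have hunits : ((isAffineOpen_top (Spec (CommRingCat.of k))).primeIdealOf
        ⟨x, trivial⟩).asIdeal.primeCompl ≤ IsUnit.submonoid Γ(Spec (CommRingCat.of k), ⊤) := by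
      intro a ha
      have ha0 : a ≠ 0 := by
        rintro rfl
        exact ha (Ideal.zero_mem _)
      obtain ⟨b, hb⟩ := hfield.mul_inv_cancel ha0
      exact IsUnit.of_mul_eq_one b hb
    have e2 := IsLocalization.atUnits Γ(Spec (CommRingCat.of k), ⊤) _
      (S := (Spec (CommRingCat.of k)).presheaf.stalk x) hunits
    exact Groth.Agent.Lib.Helper4.DimEq2.isUniversallyCatenary_of_ringEquiv e2.toRingEquiv hΓ
  · intro x y hxy hne
    exact absurd (Subsingleton.elim (α := PrimeSpectrum k) x y) hne

variable {k}

/-- on a scheme locally of finite type over a field, the residual transcendence degree drops by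
exactly one along immediate specializations -/
theorem tr_eq_add_one {Y : Scheme.{u}} (g' : Y ⟶ Spec (CommRingCat.of k)) [LocallyOfFiniteType g']
    (x y : Y) (hxy : x ⤳ y) (hne : x ≠ y)
    (himm : ∀ z : Y, x ⤳ z → z ⤳ y → z = x ∨ z = y) : tr g' x = tr g' y + 1 := by
  have hcompat : Cyc.DeltaCompat g' (fun x => (tr g' x : ℤ)) (fun _ => (0 : ℤ)) := by
    intro x
    exact ⟨tr g' x, tr_spec g' x, by simp⟩
  have hdim := Groth.Agent.S9684.result g' (fun _ => (0 : ℤ)) (isSetup_spec_field k)
    (fun x => (tr g' x : ℤ)) hcompat
  have h1 : ((tr g' x : ℕ) : ℤ) = (tr g' y : ℕ) + 1 := (hdim x y hxy hne).2 himm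
  exact_mod_cast h1

end Setup

end Groth.Agent.Helper7.CurveThru
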