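import Mathlib
import Groth.Agent.S0249

set_option linter.style.haveILetI false
set_option linter.unusedVariables false
set_option linter.unusedSectionVars false
set_option autoImplicit false
set_option backward.isDefEq.respectTransparency.types false

universe u

/-! helper7: helper7: in a Noetherian local ring, above a non-maximal prime not containing an ideal there is a prime not containing it covered by the maximal ideal (curves through a point avoiding a closed set) -/

namespace Groth.Agent.Helper7.CurveThru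

open IsLocalRing

section Dom

variable {D : Type u} [CommRing D] [IsDomain D] [IsNoetherianRing D] [IsLocalRing D]

/-- in a Noetherian local domain of dimension at least two, every nonzero element is avoided by
some prime which is neither zero nor maximal -/
theorem exists_prime_not_mem (r : Ideal D) [r.IsPrime] (hr0 : r ≠ ⊥) (hrm : r ≠ maximalIdeal D)
    (a : D) (ha : a ≠ 0) :
    ∃ r' : Ideal D, r'.IsPrime ∧ r' ≠ ⊥ ∧ r' ≠ maximalIdeal D ∧ a ∉ r' := by
  classical
  haveI : (⊥ : Ideal D).IsPrime := Ideal.isPrime_bot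
  have hrlt : r < maximalIdeal D := lt_of_le_of_ne (le_maximalIdeal (Ideal.IsPrime.ne_top ‹_›)) hrm
  have h0lt : (⊥ : Ideal D) < r := bot_lt_iff_ne_bot.mpr hr0
  have hht2 : (2 : ℕ∞) ≤ (maximalIdeal D).height := by
    have e1 := Ideal.height_add_one_le_of_lt_of_isPrime h0lt
    have e2 := Ideal.height_add_one_le_of_lt_of_isPrime hrlt
    calc (2 : ℕ∞) = 0 + 1 + 1 := by norm_num
      _ ≤ (⊥ : Ideal D).height + 1 + 1 := by gcongr; exact zero_le
      _ ≤ r.height + 1 := by gcongr
      _ ≤ (maximalIdeal D).height := e2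
  have hdim : (1 : WithBot ℕ∞) ≤ ringKrullDim D := by
    rw [← IsLocalRing.maximalIdeal_height_eq_ringKrullDim]
    have : (1 : ℕ∞) ≤ (maximalIdeal D).height := le_trans (by norm_num) hht2
    exact_mod_cast this
  -- minimal primes of `a`
  have hfin : (Ideal.span {a}).minimalPrimes.Finite :=
    Ideal.finite_minimalPrimes_of_isNoetherianRing D _
  have hnot : ¬ ((maximalIdeal D : Set D) ⊆ ⋃ p ∈ (hfin.toFinset : Set (Ideal D)), (id p : Ideal D)) := by
    intro hsub
    rw [Ideal.subset_union_prime (R := D) (s := hfin.toFinset) (f := id) ⊥ ⊥] at hsub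
    · obtain ⟨p, hp, hle⟩ := hsub
      simp only [Set.Finite.mem_toFinset] at hp
      haveI : p.IsPrime := hp.1.1
      have hpeq : p = maximalIdeal D :=
        le_antisymm (le_maximalIdeal (Ideal.IsPrime.ne_top ‹_›)) hle
      have h1 := Ideal.height_le_one_of_isPrincipal_of_mem_minimalPrimes (Ideal.span {a}) p hp
      rw [hpeq] at h1
      have : (2 : ℕ∞) ≤ 1 := hht2.trans h1
      exact absurd this (by norm_num)
    · intro p hp _ _
      simp only [Set.Finite.mem_toFinset] at hp
      exact hp.1.1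
  obtain ⟨t, htm, htn⟩ := Set.not_subset.mp hnot
  obtain ⟨r', hr'prime, htr', hr'ht⟩ := Groth.Agent.S0249.result D hdim t htm
  haveI := hr'prime
  refine ⟨r', hr'prime, ?_, ?_, ?_⟩
  · rintro rfl
    rw [Ideal.height_bot] at hr'ht
    exact absurd hr'ht (by norm_num)
  · rintro rfl
    rw [hr'ht] at hht2
    exact absurd hht2 (by norm_num)
  · intro har'
    have hle : Ideal.span {a} ≤ r' := by
      rw [Ideal.span_singleton_le_iff_mem]; exact har'
    obtain ⟨p, hpmin, hpr'⟩ := Ideal.exists_minimalPrimes_le hle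
    haveI : p.IsPrime := hpmin.1.1
    have hap : a ∈ p := hpmin.1.2 (Ideal.mem_span_singleton_self a)
    have hp0 : p ≠ ⊥ := by
      rintro rfl
      exact ha hap
    have hpeq : p = r' := by
      by_contra hne
      have hlt : p < r' := lt_of_le_of_ne hpr' hne
      have e1 := Ideal.height_add_one_le_of_lt_of_isPrime (bot_lt_iff_ne_bot.mpr hp0)
      have e2 := Ideal.height_add_one_le_of_lt_of_isPrime hlt
      rw [hr'ht] at e2
      have : (2 : ℕ∞) ≤ 1 :=
        calc (2 : ℕ∞) = 0 + 1 + 1 := by norm_num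
          _ ≤ (⊥ : Ideal D).height + 1 + 1 := by gcongr; exact zero_le
          _ ≤ p.height + 1 := by gcongr
          _ ≤ 1 := e2
      exact absurd this (by norm_num)
    apply htn
    simp only [Set.mem_iUnion]
    refine ⟨p, ?_, ?_⟩
    · simp only [Set.Finite.coe_toFinset]
      exact hpmin
    · rw [hpeq]
      exact htr'

end Dom

section Loc

variable {A : Type u} [CommRing A] [IsNoetherianRing A] [IsLocalRing A]

/-- in a Noetherian local ring, above a non-maximal prime `P` not containing an ideal `I` there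
is a prime not containing `I` which is covered by the maximal ideal -/
theorem exists_prime_covBy_maximal (P : Ideal A) [P.IsPrime] (hP : P ≠ maximalIdeal A)
    (I : Ideal A) (hI : ¬ I ≤ P) :
    ∃ q : Ideal A, q.IsPrime ∧ P ≤ q ∧ ¬ I ≤ q ∧ q ≠ maximalIdeal A ∧
      ∀ r : Ideal A, r.IsPrime → q < r → r = maximalIdeal A := by
  classical
  let S : Set (Ideal A) := {q | q.IsPrime ∧ P ≤ q ∧ ¬ I ≤ q ∧ q ≠ maximalIdeal A}
  have hne : S.Nonempty := ⟨P, ‹P.IsPrime›, le_rfl, hI, hP⟩
  obtain ⟨q, hqS, hqmax⟩ := set_has_maximal_iff_noetherian.mpr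
    (inferInstance : IsNoetherian A A) S hne
  obtain ⟨hqprime, hPq, hIq, hqm⟩ := hqS
  haveI := hqprime
  refine ⟨q, hqprime, hPq, hIq, hqm, ?_⟩
  intro r hrprime hqr
  haveI := hrprime
  by_contra hrm
  -- pass to the quotient domain
  obtain ⟨a, haI, haq⟩ := Set.not_subset.mp hIq
  haveI : IsDomain (A ⧸ q) := Ideal.Quotient.isDomain q
  haveI : IsLocalRing (A ⧸ q) :=
    IsLocalRing.of_surjective' (Ideal.Quotient.mk q) Ideal.Quotient.mk_surjective
  have hsurj : Function.Surjective (Ideal.Quotient.mk q) := Ideal.Quotient.mk_surjective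
  have hcomap_max : (maximalIdeal (A ⧸ q)).comap (Ideal.Quotient.mk q) = maximalIdeal A := by
    haveI : ((maximalIdeal (A ⧸ q)).comap (Ideal.Quotient.mk q)).IsMaximal :=
      Ideal.comap_isMaximal_of_surjective _ hsurj
    exact IsLocalRing.eq_maximalIdeal inferInstance
  have hker : RingHom.ker (Ideal.Quotient.mk q) ≤ r := by
    rw [Ideal.mk_ker]; exact hqr.le
  haveI hrbar : (r.map (Ideal.Quotient.mk q)).IsPrime :=
    Ideal.map_isPrime_of_surjective hsurj hker
  have hcomap_r : (r.map (Ideal.Quotient.mk q)).comap (Ideal.Quotient.mk q) = r := by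
    rw [Ideal.comap_map_of_surjective _ hsurj, ← RingHom.ker_eq_comap_bot, Ideal.mk_ker]
    exact sup_eq_left.mpr hqr.le
  have hr0 : r.map (Ideal.Quotient.mk q) ≠ ⊥ := by
    intro h0
    have : r ≤ q := by
      rw [← hcomap_r, h0, ← RingHom.ker_eq_comap_bot, Ideal.mk_ker]
    exact absurd (lt_of_lt_of_le hqr this) (lt_irrefl _)
  have hrm' : r.map (Ideal.Quotient.mk q) ≠ maximalIdeal (A ⧸ q) := by
    intro h
    apply hrm
    rw [← hcomap_r, h, hcomap_max]
  have ha0 : Ideal.Quotient.mk q a ≠ 0 := by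
    rw [Ne, Ideal.Quotient.eq_zero_iff_mem]; exact haq
  obtain ⟨r', hr'prime, hr'0, hr'm, har'⟩ :=
    exists_prime_not_mem (r.map (Ideal.Quotient.mk q)) hr0 hrm' _ ha0
  haveI := hr'prime
  -- pull back
  have hq_le : ∀ J : Ideal (A ⧸ q), q ≤ J.comap (Ideal.Quotient.mk q) := by
    intro J x hx
    rw [Ideal.mem_comap, Ideal.Quotient.eq_zero_iff_mem.mpr hx]
    exact J.zero_mem
  have hmem : r'.comap (Ideal.Quotient.mk q) ∈ S := by
    refine ⟨Ideal.comap_isPrime _ _, ?_, ?_, ?_⟩
    · exact hPq.trans (hq_le r')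
    · intro hle
      exact har' (hle haI)
    · intro h
      apply hr'm
      rw [← hcomap_max] at h
      exact Ideal.comap_injective_of_surjective _ hsurj h
  apply hqmax _ hmem
  refine lt_of_le_of_ne (hq_le r') ?_
  · intro h
    apply hr'0
    have h2 : (⊥ : Ideal (A ⧸ q)).comap (Ideal.Quotient.mk q) = r'.comap (Ideal.Quotient.mk q) := by
      rw [← RingHom.ker_eq_comap_bot, Ideal.mk_ker]; exact h
    exact (Ideal.comap_injective_of_surjective _ hsurj h2).symm

end Loc

end Groth.Agent.Helper7.CurveThru
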