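import Mathlib
import Groth.Agent.Lib.Helper7.CurveThru.Alg

set_option linter.style.haveILetI false
set_option linter.unusedVariables false
set_option linter.unusedSectionVars false
set_option autoImplicit false
set_option backward.isDefEq.respectTransparency.types false

universe u

/-! helper7: helper7: on a locally Noetherian scheme, between a point outside a closed set and a specialization inside it there is an immediate generization of the latter outside the closed set -/

namespace Groth.Agent.Helper7.CurveThru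

open CategoryTheory CategoryTheory.Limits AlgebraicGeometry IsLocalRing

section Loc

variable {Y : Scheme.{u}} [IsLocallyNoetherian Y]

/-- between a point `ξ` outside a closed set `F` and a specialization `q ∈ F` there is a point
outside `F` which is an immediate generization of `q` -/
theorem exists_immediate_generization (F : Set Y) (hF : IsClosed F) (q ξ : Y) (hξq : ξ ⤳ q)
    (hξF : ξ ∉ F) (hqF : q ∈ F) :
    ∃ ξ' : Y, ξ ⤳ ξ' ∧ ξ' ⤳ q ∧ ξ' ∉ F ∧ ξ' ≠ q ∧
      ∀ z : Y, ξ' ⤳ z → z ⤳ q → z = ξ' ∨ z = q := by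
  have hrange : ∀ z : Y, z ⤳ q → ∃ R : PrimeSpectrum (Y.presheaf.stalk q),
      (Y.fromSpecStalk q) R = z := by
    intro z hz
    have : z ∈ Set.range (Y.fromSpecStalk q) := by
      rw [Scheme.range_fromSpecStalk]; exact hz
    exact this
  have emb : Topology.IsEmbedding (Y.fromSpecStalk q) := (Y.fromSpecStalk q).isEmbedding
  have hspec : ∀ a b : PrimeSpectrum (Y.presheaf.stalk q),
      a ≤ b ↔ (Y.fromSpecStalk q) a ⤳ (Y.fromSpecStalk q) b := by
    intro a b
    rw [PrimeSpectrum.le_iff_specializes]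
    exact (emb.isInducing.specializes_iff (x := a) (y := b)).symm
  have hclosedPt : (Y.fromSpecStalk q) (closedPoint (Y.presheaf.stalk q)) = q :=
    Scheme.fromSpecStalk_closedPoint
  obtain ⟨P, hP⟩ := hrange ξ hξq
  have hcl : IsClosed {R : PrimeSpectrum (Y.presheaf.stalk q) | (Y.fromSpecStalk q) R ∈ F} :=
    hF.preimage (Y.fromSpecStalk q).continuous
  obtain ⟨I, hI⟩ := (PrimeSpectrum.isClosed_iff_zeroLocus_ideal _).mp hcl
  have hmemF : ∀ R : PrimeSpectrum (Y.presheaf.stalk q),
      (Y.fromSpecStalk q) R ∈ F ↔ I ≤ R.asIdeal := by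
    intro R
    have : R ∈ {R : PrimeSpectrum (Y.presheaf.stalk q) | (Y.fromSpecStalk q) R ∈ F} ↔
        R ∈ PrimeSpectrum.zeroLocus (I : Set (Y.presheaf.stalk q)) := by rw [hI]
    rw [PrimeSpectrum.mem_zeroLocus] at this
    exact this
  haveI := P.2
  have hIP : ¬ I ≤ P.asIdeal := by
    rw [← hmemF, hP]; exact hξF
  have hPm : P.asIdeal ≠ maximalIdeal (Y.presheaf.stalk q) := by
    intro h
    have : P = closedPoint (Y.presheaf.stalk q) := PrimeSpectrum.ext h
    rw [this, hclosedPt] at hP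
    rw [← hP] at hξF
    exact hξF hqF
  obtain ⟨𝔮, h𝔮prime, hP𝔮, hI𝔮, h𝔮m, hcov⟩ := exists_prime_covBy_maximal P.asIdeal hPm I hIP
  obtain ⟨Q, hQ⟩ : ∃ Q : PrimeSpectrum (Y.presheaf.stalk q), Q.asIdeal = 𝔮 := ⟨⟨𝔮, h𝔮prime⟩, rfl⟩
  refine ⟨(Y.fromSpecStalk q) Q, ?_, ?_, ?_, ?_, ?_⟩
  · rw [← hP, ← hspec]
    change P.asIdeal ≤ Q.asIdeal
    rw [hQ]; exact hP𝔮
  · have h := (hspec Q (closedPoint (Y.presheaf.stalk q))).mp
      (le_maximalIdeal Q.2.ne_top)
    rwa [hclosedPt] at h
  · rw [hmemF, hQ]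
    exact hI𝔮
  · intro h
    have h' : (Y.fromSpecStalk q) Q = (Y.fromSpecStalk q) (closedPoint (Y.presheaf.stalk q)) :=
      h.trans hclosedPt.symm
    have := emb.injective h'
    apply h𝔮m
    rw [← hQ, this]
    rfl
  · intro z hz1 hz2
    obtain ⟨R, rfl⟩ := hrange z hz2
    rw [← hspec] at hz1
    rcases eq_or_lt_of_le hz1 with h | h
    · left; rw [h]
    · right
      have h' : 𝔮 < R.asIdeal := by rw [← hQ]; exact h
      have h2 : R.asIdeal = maximalIdeal (Y.presheaf.stalk q) := hcov R.asIdeal R.2 h'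
      have h3 : R = closedPoint (Y.presheaf.stalk q) := PrimeSpectrum.ext h2
      rw [h3, hclosedPt]

end Loc

end Groth.Agent.Helper7.CurveThru
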