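import Mathlib
import Groth.Agent.Lib.Helper7.CurveThru.Loc
import Groth.Agent.Lib.Helper7.CurveThru.TrDim
import Groth.Agent.Lib.Helper4.PropDim1
import Groth.Agent.Lib.Helper4.FTDim1

set_option linter.style.haveILetI false
set_option linter.unusedVariables false
set_option linter.unusedSectionVars false
set_option autoImplicit false
set_option backward.isDefEq.respectTransparency.types false

universe u

/-! helper7: helper7: through a closed point of a flat proper family over a curve there is an irreducible curve finite over the base curve (S16203 core); finiteness of closed sets of closed points; closed points have residual transcendence degree zero -/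

namespace Groth.Agent.Helper7.CurveThru

open CategoryTheory CategoryTheory.Limits AlgebraicGeometry TopologicalSpace
open Groth.Agent.Lib.Helper4.FibDim1 Groth.Agent.Lib.Helper4.PropDim1 Groth.Agent.Lib.Helper4.FTDim1

section Top

/-- a closed subset of a Noetherian quasi-sober space all of whose points are closed is finite -/
theorem finite_of_isClosed_of_forall_isClosed_singleton {α : Type*} [TopologicalSpace α]
    [NoetherianSpace α] [QuasiSober α] (C : Set α) (hC : IsClosed C)
    (h : ∀ c ∈ C, IsClosed ({c} : Set α)) : C.Finite := by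
  obtain ⟨S, hSfin, hScl, hSirr, hCS⟩ := NoetherianSpace.exists_finite_set_isClosed_irreducible hC
  rw [hCS]
  apply Set.Finite.sUnion hSfin
  intro t ht
  obtain ⟨x, hgen⟩ : ∃ x : α, IsGenericPoint x t :=
    ⟨_, (hSirr t ht).isGenericPoint_genericPoint (hScl t ht)⟩
  have hxt : x ∈ t := hgen.mem
  have hxC : x ∈ C := by
    rw [hCS]; exact ⟨t, ht, hxt⟩
  have hcl := h _ hxC
  have ht_eq : t = {x} := by
    rw [← hgen.def, hcl.closure_eq]
  rw [ht_eq]
  exact Set.finite_singleton _

end Top

section Tr

variable {k : Type u} [Field k] {X : Scheme.{u}} (p : X ⟶ Spec (CommRingCat.of k))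
  [LocallyOfFiniteType p]

theorem tr_eq_zero_of_isClosed (x : X) (hx : IsClosed ({x} : Set X)) : tr p x = 0 := by
  obtain ⟨z, -, hxz, hz⟩ := exists_tr_eq_zero p x
  have : z ∈ closure ({x} : Set X) := specializes_iff_mem_closure.mp hxz
  rw [hx.closure_eq, Set.mem_singleton_iff] at this
  rw [← this]; exact hz

theorem isClosed_of_tr_eq_zero (x : X) (hx : tr p x = 0) : IsClosed ({x} : Set X) := by
  have : closure ({x} : Set X) = {x} := by
    apply Set.Subset.antisymm _ subset_closure
    intro y hy
    rw [Set.mem_singleton_iff]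
    by_contra hne
    have hsp : x ⤳ y := specializes_iff_mem_closure.mpr hy
    have := tr_lt_of_specializes_of_field k p x y hsp (fun h => hne h.symm)
    omega
  rw [← this]
  exact isClosed_closure

end Tr

section Main

variable {k : Type u} [Field k] {Y Z : Scheme.{u}} (g : Z ⟶ Spec (CommRingCat.of k)) (f : Y ⟶ Z)

/-- S16203 core: a curve through `q` finite over the curve `B` -/
theorem exists_curve_through [LocallyOfFiniteType g] [LocallyOfFiniteType (f ≫ g)]
    [QuasiCompact (f ≫ g)] [Flat f] (hcl : IsClosedMap f)
    (B : Set Z) (hBc : IsClosed B) (hBi : IsIrreducible B) (hBd : topologicalKrullDim ↥B = 1)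
    (p : Z) (hp : p ∈ B) (hpc : IsClosed ({p} : Set Z))
    (q : Y) (hqc : IsClosed ({q} : Set Y)) (hq : f q = p) :
    ∃ B' : Set Y, IsClosed B' ∧ IsIrreducible B' ∧ q ∈ B' ∧ f '' B' = B ∧
      ∀ z : Z, (B' ∩ f ⁻¹' {z}).Finite := by
  haveI : LocallyOfFiniteType f := locallyOfFiniteType_of_comp f g
  haveI : IsLocallyNoetherian Y := LocallyOfFiniteType.isLocallyNoetherian (f ≫ g)
  haveI : NoetherianSpace ↥Y := noetherianSpace_of_field k (f ≫ g)
  -- generic point of B
  obtain ⟨η, hη⟩ : ∃ η : Z, IsGenericPoint η B := ⟨_, hBi.isGenericPoint_genericPoint hBc⟩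
  have hηB : closure ({η} : Set Z) = B := hη.def
  have htrη : tr g η = 1 := by
    have h1 := dim_closure_of_field k g η
    rw [hηB, hBd] at h1
    have h2 : ((1 : ℕ) : WithBot ℕ∞) = ((tr g η : ℕ) : WithBot ℕ∞) := by
      rw [← h1]; rfl
    exact_mod_cast h2.symm
  have htrp : tr g p = 0 := tr_eq_zero_of_isClosed g p hpc
  have htrq : tr (f ≫ g) q = 0 := tr_eq_zero_of_isClosed (f ≫ g) q hqc
  have hηp : η ⤳ p := hη.specializes hp
  have hηnep : η ≠ p := by
    rintro rfl
    omega
  -- going down
  obtain ⟨ξ, hξq, hξη⟩ := Flat.generalizingMap (f := f) (a := q) (b := η) (by rw [hq]; exact hηp)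
  -- the point ξ'
  have hFcl : IsClosed (f ⁻¹' {p}) := hpc.preimage f.continuous
  have hξF : ξ ∉ f ⁻¹' {p} := by
    intro h
    have : f ξ = p := h
    rw [hξη] at this
    exact hηnep this
  obtain ⟨ξ', hξξ', hξ'q, hξ'F, hξ'ne, himm⟩ :=
    exists_immediate_generization (f ⁻¹' {p}) hFcl q ξ hξq hξF hq
  have htrξ' : tr (f ≫ g) ξ' = 1 := by
    rw [tr_eq_add_one (f ≫ g) ξ' q hξ'q hξ'ne himm, htrq]
  -- the image of ξ' is η
  have hfξ' : f ξ' = η := by
    have h1 : η ⤳ f ξ' := by
      rw [← hξη]; exact hξξ'.map f.continuous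
    have h2 : f ξ' ⤳ p := by
      rw [← hq]; exact hξ'q.map f.continuous
    have h3 : f ξ' ≠ p := fun h => hξ'F h
    have h4 := tr_lt_of_specializes_of_field k g (f ξ') p h2 h3
    by_contra hne
    have h5 := tr_lt_of_specializes_of_field k g η (f ξ') h1 (fun h => hne h.symm)
    omega
  have htrlt : ∀ y' ∈ closure ({ξ'} : Set Y), y' ≠ ξ' → tr (f ≫ g) y' = 0 := by
    intro y' hy' hne
    have hsp : ξ' ⤳ y' := specializes_iff_mem_closure.mpr hy'
    have := tr_lt_of_specializes_of_field k (f ≫ g) ξ' y' hsp (fun h => hne h.symm)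
    omega
  refine ⟨closure {ξ'}, isClosed_closure, isIrreducible_singleton.closure,
    specializes_iff_mem_closure.mp hξ'q, ?_, ?_⟩
  · apply Set.Subset.antisymm
    · rintro _ ⟨y', hy', rfl⟩
      have hsp : ξ' ⤳ y' := specializes_iff_mem_closure.mpr hy'
      have h1 : η ⤳ f y' := by
        rw [← hfξ']; exact hsp.map f.continuous
      rw [← hηB]
      exact specializes_iff_mem_closure.mp h1
    · have hclosed : IsClosed (f '' closure ({ξ'} : Set Y)) := hcl _ isClosed_closure
      rw [← hηB]
      apply closure_minimal _ hclosed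
      rw [Set.singleton_subset_iff]
      exact ⟨ξ', subset_closure rfl, hfξ'⟩
  · intro z
    by_cases hzη : z = η
    · apply Set.Finite.subset (Set.finite_singleton ξ')
      rintro y' ⟨hy'B, hy'z⟩
      rw [Set.mem_singleton_iff]
      by_contra hne
      have h0 := htrlt y' hy'B hne
      have h1 := tr_comp f g y'
      have h2 : f y' = η := by rw [← hzη]; exact hy'z
      rw [h2, htrη] at h1
      omega
    · by_cases hzB : z ∈ B
      · -- z is a closed point
        have hzsp : η ⤳ z := hη.specializes hzB
        have h1 := tr_lt_of_specializes_of_field k g η z hzsp (fun h => hzη h.symm)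
        have hz0 : tr g z = 0 := by omega
        have hzcl : IsClosed ({z} : Set Z) := isClosed_of_tr_eq_zero g z hz0
        apply finite_of_isClosed_of_forall_isClosed_singleton
        · exact isClosed_closure.inter (hzcl.preimage f.continuous)
        · rintro c ⟨hcB, hcz⟩
          apply isClosed_of_tr_eq_zero (f ≫ g)
          apply htrlt c hcB
          rintro rfl
          apply hzη
          rw [← hfξ']
          exact hcz.symm
      · convert Set.finite_empty
        ext y'
        simp only [Set.mem_inter_iff, Set.mem_preimage, Set.mem_singleton_iff, Set.mem_empty_iff_false,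
          iff_false, not_and]
        intro hy'B hy'z
        apply hzB
        rw [← hy'z, ← hηB]
        have hsp : ξ' ⤳ y' := specializes_iff_mem_closure.mpr hy'B
        have h1 : η ⤳ f y' := by
          rw [← hfξ']; exact hsp.map f.continuous
        exact specializes_iff_mem_closure.mp h1

end Main

end Groth.Agent.Helper7.CurveThru
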